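import Cfsg.Agent.Classical.Misc.PSLFourGroups

/-!
Odd products of involutions of `PSL₂`.
-/

set_option autoImplicit false
set_option linter.unusedSectionVars false
set_option linter.flexible false

namespace Cfsg.PSLGraph

open Matrix Cfsg.Lib.Classical.PSLFour
open scoped MatrixGroups

variable {F : Type*} [Field F]

/-- The trace. -/
def tr (g : SL(2, F)) : F := g.1 0 0 + g.1 1 1

/-- The quotient map. -/
def pr : SL(2, F) →* Matrix.ProjectiveSpecialLinearGroup (Fin 2) F := QuotientGroup.mk' _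

theorem pr_surj : Function.Surjective (pr (F := F)) := QuotientGroup.mk'_surjective _

theorem pr_eq_one_iff (g : SL(2, F)) : pr g = 1 ↔ g = 1 ∨ g = -1 := by
  rw [pr, QuotientGroup.mk'_apply, QuotientGroup.eq_one_iff, Matrix.SpecialLinearGroup.mem_center_iff]
  constructor
  · rintro ⟨r, hr, hg⟩
    rw [Fintype.card_fin, sq_eq_one_iff] at hr
    rcases hr with rfl | rfl
    · left
      refine Subtype.ext ?_
      rw [← hg]
      simp
    · right
      refine Subtype.ext ?_
      rw [← hg]
      ext i j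
      fin_cases i <;> fin_cases j <;> simp
  · rintro (rfl | rfl)
    · exact ⟨1, by simp, by simp⟩
    · exact ⟨-1, by simp, by ext i j; fin_cases i <;> fin_cases j <;> simp⟩

theorem pr_neg (g : SL(2, F)) : pr (-g) = pr g := by
  rw [show -g = (-1) * g by simp, map_mul, (pr_eq_one_iff (-1 : SL(2, F))).2 (Or.inr rfl), one_mul]

/-- A lift of an involution. -/
theorem lift_invol {x : Matrix.ProjectiveSpecialLinearGroup (Fin 2) F} (hx : x * x = 1) (hne : x ≠ 1) :
    ∃ A : SL(2, F), pr A = x ∧ A * A = -1 := by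
  obtain ⟨A, rfl⟩ := pr_surj x
  refine ⟨A, rfl, ?_⟩
  rw [← map_mul, pr_eq_one_iff] at hx
  rcases hx with h | h
  swap
  · exact h
  by_cases h2 : (2 : F) = 0
  · rw [h]
    have e : (1 : F) = -1 := by linear_combination h2
    refine Subtype.ext ?_
    ext i j
    rw [val_neg]
    fin_cases i <;> fin_cases j <;> simp [← e]
  exfalso
  apply hne
  rw [pr_eq_one_iff]
  have hd := det_eq_one A
  obtain ⟨e00, e01, e10, e11⟩ := val_one (F := F)
  have h00 := congrArg (fun g : SL(2, F) => g.1 0 0) h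
  have h11 := congrArg (fun g : SL(2, F) => g.1 1 1) h
  have h01 := congrArg (fun g : SL(2, F) => g.1 0 1) h
  have h10 := congrArg (fun g : SL(2, F) => g.1 1 0) h
  simp only [val_mul, e00, e01, e10, e11] at h00 h11 h01 h10
  have k0 : A.1 0 0 = A.1 1 1 := by
    have : (2 : F) * (A.1 0 0 - A.1 1 1) = 0 := by
      linear_combination A.1 0 0 * (h00 - h11) - (A.1 0 0 - A.1 1 1) * (h00 + hd)
    exact sub_eq_zero.1 ((mul_eq_zero.1 this).resolve_left h2)
  have k1 : A.1 0 1 = 0 := by
    have : (2 : F) * A.1 0 1 = 0 := by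
      linear_combination A.1 0 0 * h01 - A.1 0 1 * (h00 + hd)
    exact (mul_eq_zero.1 this).resolve_left h2
  have k2 : A.1 1 0 = 0 := by
    have : (2 : F) * A.1 1 0 = 0 := by
      linear_combination A.1 0 0 * h10 - A.1 1 0 * (h00 + hd)
    exact (mul_eq_zero.1 this).resolve_left h2
  rw [k1, k2, k0] at hd
  have : (A.1 1 1 - 1) * (A.1 1 1 + 1) = 0 := by linear_combination hd
  rcases mul_eq_zero.1 this with e | e
  · left
    refine ext_four ?_ ?_ ?_ ?_ <;> simp [k0, k1, k2, sub_eq_zero.1 e]
  · right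
    refine ext_four ?_ ?_ ?_ ?_ <;> simp [k0, k1, k2, eq_neg_of_add_eq_zero_left e]

theorem odd_of_pow {M : SL(2, F)} {n : ℕ} (hn : Odd n) (h : M ^ n = 1 ∨ M ^ n = -1) :
    Odd (orderOf (pr M)) :=
  hn.of_dvd_nat (orderOf_dvd_of_pow_eq_one (by rw [← map_pow, pr_eq_one_iff]; exact h))

/-- The Kronecker symbol. -/
def dl (i j : Fin 2) : F := if i = j then 1 else 0

theorem one_val (i j : Fin 2) : (1 : SL(2, F)).1 i j = dl i j := by
  rw [Matrix.SpecialLinearGroup.coe_one, Matrix.one_apply]
  rfl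

theorem pow_unip {M : SL(2, F)} (hM : tr M = 2) (k : ℕ) (i j : Fin 2) :
    (M ^ k).1 i j = dl i j + (k : F) * (M.1 i j - dl i j) := by
  have hd := det_eq_one M
  rw [tr] at hM
  induction k generalizing i j with
  | zero => simp [one_val]
  | succ k ih =>
    rw [pow_succ, val_mul, ih i 0, ih i 1]
    push_cast
    fin_cases i <;> fin_cases j <;> simp [dl]
    · linear_combination (k : F) * (M.1 0 0) * hM - (k : F) * hd
    · linear_combination (k : F) * (M.1 0 1) * hM
    · linear_combination (k : F) * (M.1 1 0) * hM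
    · linear_combination (k : F) * (M.1 1 1) * hM - (k : F) * hd

theorem odd_parab [Fintype F] (hodd : Odd (Fintype.card F)) {M : SL(2, F)} (hM : tr M = 2 ∨ tr M = -2) :
    Odd (orderOf (pr M)) := by
  have key : ∀ M : SL(2, F), tr M = 2 → Odd (orderOf (pr M)) := fun M h =>
    odd_of_pow hodd (Or.inl (Subtype.ext (by
      ext i j
      rw [pow_unip h, FiniteField.cast_card_eq_zero, one_val]
      ring)))
  rcases hM with h | h
  · exact key M h
  · rw [← pr_neg]
    refine key (-M) ?_
    simp only [tr, val_neg] at h ⊢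
    linear_combination -h

theorem pow_split {M : SL(2, F)} {l m : F} (hs : l + m = tr M) (hp : l * m = 1) (k : ℕ) (i j : Fin 2) :
    (l - m) * (M ^ k).1 i j = l ^ k * (M.1 i j - m * dl i j) - m ^ k * (M.1 i j - l * dl i j) := by
  have hd := det_eq_one M
  rw [tr] at hs
  induction k generalizing i j with
  | zero =>
    simp [one_val]
    ring
  | succ k ih =>
    rw [pow_succ, val_mul, mul_add, ← mul_assoc, ← mul_assoc, ih i 0, ih i 1, pow_succ, pow_succ]
    fin_cases i <;> fin_cases j <;> simp [dl]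
    · linear_combination (m ^ k - l ^ k) * M.1 0 0 * hs - (m ^ k - l ^ k) * hp + (m ^ k - l ^ k) * hd
    · linear_combination (m ^ k - l ^ k) * M.1 0 1 * hs
    · linear_combination (m ^ k - l ^ k) * M.1 1 0 * hs
    · linear_combination (m ^ k - l ^ k) * M.1 1 1 * hs - (m ^ k - l ^ k) * hp + (m ^ k - l ^ k) * hd

theorem odd_split [Fintype F] (h3 : Fintype.card F % 4 = 3) {M : SL(2, F)} {d : F}
    (hd : tr M ^ 2 - 4 = d ^ 2) : Odd (orderOf (pr M)) := by
  have hodd : Odd (Fintype.card F) := Nat.odd_iff.2 (by omega)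
  by_cases hd0 : d = 0
  · refine odd_parab hodd ?_
    have : (tr M - 2) * (tr M + 2) = 0 := by rw [hd0] at hd; linear_combination hd
    rcases mul_eq_zero.1 this with e | e
    · exact Or.inl (sub_eq_zero.1 e)
    · exact Or.inr (eq_neg_of_add_eq_zero_left e)
  have h2 := two_ne (F := F) hodd
  set l := (tr M + d) / 2 with hl
  set m := (tr M - d) / 2 with hm
  have hs : l + m = tr M := by rw [hl, hm]; field_simp; ring
  have hp : l * m = 1 := by
    rw [hl, hm]
    field_simp
    linear_combination hd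
  have hlm : l - m = d := by rw [hl, hm]; field_simp; ring
  have hl0 : l ≠ 0 := fun e => by rw [e, zero_mul] at hp; exact zero_ne_one hp
  set n := Fintype.card F / 2 with hn
  have hn2 : Odd n := ⟨Fintype.card F / 4, by omega⟩
  have hsq : (l ^ n) ^ 2 = 1 := by
    rw [← pow_mul, show n * 2 = Fintype.card F - 1 by omega, FiniteField.pow_card_sub_one_eq_one l hl0]
  have hmn : m ^ n = l ^ n := by
    have e : l ^ n * m ^ n = 1 := by rw [← mul_pow, hp, one_pow]
    linear_combination (l ^ n) * e - m ^ n * hsq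
  have hij : ∀ i j, (M ^ n).1 i j = l ^ n * dl i j := fun i j => by
    have h := pow_split hs hp n i j
    rw [hmn] at h
    have : (l - m) * ((M ^ n).1 i j - l ^ n * dl i j) = 0 := by linear_combination h
    rcases mul_eq_zero.1 this with e | e
    · exact absurd (hlm ▸ e) hd0
    · exact sub_eq_zero.1 e
  refine odd_of_pow hn2 ?_
  rcases sq_eq_one_iff.1 hsq with e | e
  · exact Or.inl (Subtype.ext (by ext i j; rw [hij, one_val, e, one_mul]))
  · exact Or.inr (Subtype.ext (by ext i j; rw [hij, val_neg, one_val, e, neg_one_mul]))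

/-- Minus half the trace of a product. -/
theorem tr_comm (A B : SL(2, F)) : tr (A * B) = tr (B * A) := by
  simp only [tr, val_mul]
  ring

theorem tr_neg_right (A B : SL(2, F)) : tr (A * -B) = -tr (A * B) := by
  simp only [tr, val_mul, val_neg]
  ring

/-- The third involution. -/
theorem build {A B : SL(2, F)} (hA : A * A = -1) (hB : B * B = -1) {b c g : F} (h2 : (2 : F) ≠ 0)
    (hb : tr (A * B) = -2 * b) (he : 1 + b ≠ 0)
    (hg : g ^ 2 * ((1 + b) ^ 2 * (1 - b)) = 1 + b - 2 * c ^ 2) :
    ∃ C : SL(2, F), C * C = -1 ∧ tr (A * C) = -2 * c ∧ tr (B * C) = -2 * c := by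
  have ha := (sq_iff A).1 hA
  have hb' := (sq_iff B).1 hB
  have da := det_eq_one A
  have db := det_eq_one B
  rw [ha] at da
  rw [hb'] at db
  simp only [tr, val_mul, ha, hb'] at hb
  set a1 := A.1 0 0
  set a2 := A.1 0 1
  set a3 := A.1 1 0
  set b1 := B.1 0 0
  set b2 := B.1 0 1
  set b3 := B.1 1 0
  set u := c / (1 + b) with hu
  have huc : u * (1 + b) = c := by rw [hu]; field_simp
  let n1 := (a2 * b3 - a3 * b2) / 2
  let n2 := a1 * b2 - a2 * b1
  let n3 := a3 * b1 - a1 * b3
  have hn1 : 2 * n1 = a2 * b3 - a3 * b2 := by simp only [n1]; field_simp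
  have hdet : (u * (a1 + b1) + g * n1) * -(u * (a1 + b1) + g * n1) -
      (u * (a2 + b2) + g * n2) * (u * (a3 + b3) + g * n3) = 1 := by
    have hN : -(n1 * n1) - n2 * n3 = 1 - b ^ 2 := by
      have : (4 : F) * (-(n1 * n1) - n2 * n3) = 4 * (1 - b ^ 2) := by
        simp only [n2, n3]
        linear_combination (-(2 * n1) - (a2 * b3 - a3 * b2)) * hn1
          + 4 * (-b1 * b1 - b2 * b3) * da + 4 * db
          - (2 * a1 * b1 + a2 * b3 + a3 * b2 - 2 * b) * hb
      exact mul_left_cancel₀ (by
        intro e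
        exact h2 ((mul_self_eq_zero (a := (2 : F))).1 (by linear_combination e))) this
    have hcross : -(2 * n1) * (a1 + b1) - n2 * (a3 + b3) - n3 * (a2 + b2) = 0 := by
      simp only [n2, n3]
      linear_combination -(a1 + b1) * hn1
    have hrem : 2 * u ^ 2 * (1 + b) + g ^ 2 * (1 - b ^ 2) = 1 := mul_left_cancel₀ he (by
      linear_combination hg + 2 * (u * (1 + b) + c) * huc)
    linear_combination g ^ 2 * hN + g * u * hcross + u ^ 2 * da + u ^ 2 * db - u ^ 2 * hb + hrem
  refine ⟨sl (u * (a1 + b1) + g * n1) (u * (a2 + b2) + g * n2) (u * (a3 + b3) + g * n3)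
    (-(u * (a1 + b1) + g * n1)) hdet, (sq_iff _).2 (by rw [sl11, sl00]), ?_, ?_⟩
  · simp only [tr, val_mul, sl00, sl01, sl10, sl11, ha]
    simp only [n2, n3]
    linear_combination -2 * u * da + u * hb + g * a1 * hn1 - 2 * huc
  · simp only [tr, val_mul, sl00, sl01, sl10, sl11, hb']
    simp only [n2, n3]
    linear_combination -2 * u * db + u * hb + g * b1 * hn1 - 2 * huc

end Cfsg.PSLGraph
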