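import Cfsg.Agent.InvolCalc.PSLGraph.Main
import Cfsg.Agent.InvolCalc.SymGraph.Diam

/-!
The odd-product graph on a class of involutions of `PSL₂`.
-/

set_option autoImplicit false
set_option linter.unusedSectionVars false
set_option linter.flexible false

namespace Cfsg.PSLGraph

open Matrix Cfsg.Lib.Classical.PSLFour
open scoped MatrixGroups

variable {F : Type*} [Field F] [Fintype F]

theorem pr_inj (h2 : (2 : F) = 0) {g h : SL(2, F)} (e : pr g = pr h) : g = h := by
  have he : pr (g⁻¹ * h) = 1 := by rw [map_mul, map_inv, e, inv_mul_cancel]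
  have h1 : (1 : F) = -1 := by linear_combination h2
  rcases (pr_eq_one_iff _).1 he with e | e
  · exact inv_mul_eq_one.1 e
  · refine inv_mul_eq_one.1 (e.trans ?_)
    obtain ⟨e00, e01, e10, e11⟩ := val_one (F := F)
    refine ext_four ?_ ?_ ?_ ?_ <;> simp only [val_neg, e00, e01, e10, e11] <;> simp [← h1]

theorem odd_char_two (h2 : (2 : F) = 0) {M : SL(2, F)} (hM : tr M ≠ 0) : Odd (orderOf (pr M)) := by
  rw [← Nat.not_even_iff_odd]
  rintro ⟨m, hm⟩
  have hord : 0 < orderOf (pr M) := orderOf_pos _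
  set J := M ^ m
  have hJ2 : pr J * pr J = 1 := by
    rw [← map_mul, ← pow_add, ← hm, map_pow, pow_orderOf_eq_one]
  have hJne : pr J ≠ 1 := fun e => by
    rw [map_pow] at e
    have := Nat.le_of_dvd (by omega) (orderOf_dvd_of_pow_eq_one e)
    omega
  obtain ⟨K, hK, hKK⟩ := lift_invol hJ2 hJne
  have hK4 := (sq_iff K).1 hKK
  have hcomm : M * K = K * M := by
    apply pr_inj h2
    rw [map_mul, map_mul, hK, ← map_mul, ← map_mul]
    exact congrArg pr ((Commute.self_pow M m).eq)
  have c0 := congrArg (fun g : SL(2, F) => g.1 0 1) hcomm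
  have c1 := congrArg (fun g : SL(2, F) => g.1 1 0) hcomm
  simp only [val_mul, hK4] at c0 c1
  by_cases k1 : K.1 0 1 = 0
  · by_cases k2 : K.1 1 0 = 0
    · apply hJne
      rw [← hK, pr_eq_one_iff]
      have hd := det_eq_one K
      rw [hK4, k1, k2] at hd
      have : K.1 0 0 = 1 := by
        have : (K.1 0 0 - 1) ^ 2 = 0 := by linear_combination hd + (K.1 0 0 ^ 2 - K.1 0 0 + 1) * h2
        exact sub_eq_zero.1 (pow_eq_zero_iff two_ne_zero |>.1 this)
      left
      obtain ⟨e00, e01, e10, e11⟩ := val_one (F := F)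
      refine ext_four ?_ ?_ ?_ ?_ <;> simp only [e00, e01, e10, e11, this, k1, k2, hK4]
      linear_combination -h2
    · apply hM
      have : K.1 1 0 * tr M = 0 := by
        rw [tr]
        linear_combination c1 + (-M.1 1 0 * K.1 0 0 + M.1 0 0 * K.1 1 0) * h2
      exact (mul_eq_zero.1 this).resolve_left k2
  · apply hM
    have : K.1 0 1 * tr M = 0 := by
      rw [tr]
      linear_combination c0 + (M.1 0 1 * K.1 0 0 + M.1 1 1 * K.1 0 1) * h2
    exact (mul_eq_zero.1 this).resolve_left k1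

theorem good_even (h2 : (2 : F) = 0) {A B : SL(2, F)} (hA : A * A = -1) (hB : B * B = -1)
    (hA1 : pr A ≠ 1) (hB1 : pr B ≠ 1) : GoodSL A B := by
  have key : ∀ u v : F, ∀ C : SL(2, F), C.1 0 0 = 1 + u * v → C.1 1 1 = 1 + u * v → C.1 0 1 = u * u →
      C.1 1 0 = v * v → ∀ G : SL(2, F), G * G = -1 → tr (G * C) = G.1 0 1 * (v * v) + G.1 1 0 * (u * u) := by
    intro u v C e0 e1 e2 e3 G hG
    simp only [tr, val_mul, e0, e1, e2, e3, (sq_iff G).1 hG]
    ring
  have hnz : ∀ G : SL(2, F), G * G = -1 → pr G ≠ 1 → G.1 0 1 ≠ 0 ∨ G.1 1 0 ≠ 0 := by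
    intro G hG hne
    by_contra! h
    apply hne
    rw [pr_eq_one_iff]
    have hd := det_eq_one G
    rw [(sq_iff G).1 hG, h.1, h.2] at hd
    have : G.1 0 0 = 1 := by
      have : (G.1 0 0 - 1) ^ 2 = 0 := by linear_combination hd + (G.1 0 0 ^ 2 - G.1 0 0 + 1) * h2
      exact sub_eq_zero.1 (pow_eq_zero_iff two_ne_zero |>.1 this)
    left
    obtain ⟨e00, e01, e10, e11⟩ := val_one (F := F)
    refine ext_four ?_ ?_ ?_ ?_ <;> simp only [e00, e01, e10, e11, this, h.1, h.2, (sq_iff G).1 hG]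
    linear_combination -h2
  have fin : ∀ u v : F, A.1 0 1 * (v * v) + A.1 1 0 * (u * u) ≠ 0 → B.1 0 1 * (v * v) + B.1 1 0 * (u * u) ≠ 0 →
      GoodSL A B := by
    intro u v ha hb
    set C := sl (1 + u * v) (u * u) (v * v) (1 + u * v) (by linear_combination u * v * h2) with hC
    have hk := key u v C (sl00 ..) (sl11 ..) (sl01 ..) (sl10 ..)
    refine ⟨C, (sq_iff _).2 (by rw [hC, sl11, sl00]; linear_combination (1 + u * v) * h2), ?_, ?_⟩ <;>
      rw [← map_mul] <;> refine odd_char_two h2 ?_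
    · rwa [hk A hA]
    · rwa [hk B hB]
  have hA' := hnz A hA hA1
  have hB' := hnz B hB hB1
  by_cases a3 : A.1 1 0 = 0
  · have a2 := hA'.resolve_right (not_not.2 a3)
    by_cases b2 : B.1 0 1 = 0
    · have b3 := hB'.resolve_left (not_not.2 b2)
      exact fin 1 1 (by simp [a3, a2]) (by simp [b2, b3])
    · exact fin 0 1 (by simpa using a2) (by simpa using b2)
  · by_cases b3 : B.1 1 0 = 0
    · have b2 := hB'.resolve_right (not_not.2 b3)
      by_cases a2 : A.1 0 1 = 0
      · exact fin 1 1 (by simp [a2, a3]) (by simp [b2, b3])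
      · exact fin 0 1 (by simpa using a2) (by simpa using b2)
    · exact fin 1 0 (by simpa using a3) (by simpa using b3)

theorem conj_of_odd {G : Type*} [Group G] {x y : G} (hx : x * x = 1) (hy : y * y = 1)
    (h : Odd (orderOf (x * y))) : IsConj x y := by
  obtain ⟨k, hk⟩ := h
  refine isConj_iff.2 ⟨(y * x) ^ (k + 1), ?_⟩
  have hxi := inv_eq_of_mul_eq_one_right hx
  have hyi := inv_eq_of_mul_eq_one_right hy
  have hrev : ∀ n, x * (x * y) ^ n = (y * x) ^ n * x := by
    intro n
    have hs : SemiconjBy x (x * y) (y * x) := by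
      show x * (x * y) = y * x * x
      rw [← mul_assoc, hx, one_mul, mul_assoc, hx, mul_one]
    exact hs.pow_right n
  have hflip : y * x = (x * y)⁻¹ := by rw [_root_.mul_inv_rev, hxi, hyi]
  have hinv : ((y * x) ^ (k + 1))⁻¹ = (x * y) ^ (k + 1) := by rw [hflip, inv_pow, inv_inv]
  have h1 : (y * x) ^ (k + 1 + (k + 1)) = y * x := by
    rw [show k + 1 + (k + 1) = orderOf (x * y) + 1 by omega, pow_succ, hflip, inv_pow, pow_orderOf_eq_one,
      inv_one, one_mul]
  rw [hinv, mul_assoc, hrev, ← mul_assoc, ← pow_add, h1, mul_assoc, hx, mul_one]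

/-- The main statement. -/
theorem good {x y : Matrix.ProjectiveSpecialLinearGroup (Fin 2) F} (h4 : 4 ≤ Fintype.card F) (hx : x * x = 1)
    (hx1 : x ≠ 1) (hy : y * y = 1) (hy1 : y ≠ 1) :
    ∃ z, IsConj y z ∧ Odd (orderOf (x * z)) ∧ Odd (orderOf (y * z)) := by
  obtain ⟨A, rfl, hA⟩ := lift_invol hx hx1
  obtain ⟨B, rfl, hB⟩ := lift_invol hy hy1
  have hG : GoodSL A B := by
    by_cases hodd : Odd (Fintype.card F)
    · exact good_odd h4 hodd hA hB
    · have h2 : (2 : F) = 0 := by
        by_contra h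
        exact hodd (Nat.odd_iff.2 (FiniteField.odd_card_of_char_ne_two fun e => h (by
          have := ringChar.Nat.cast_ringChar (R := F)
          rw [e] at this
          exact_mod_cast this)))
      exact good_even h2 hA hB hx1 hy1
  obtain ⟨C, hC, h1, h2⟩ := hG
  have hCC : pr C * pr C = 1 := by rw [← map_mul, hC, pr_eq_one_iff]; exact Or.inr rfl
  exact ⟨pr C, conj_of_odd hy hCC h2, h1, h2⟩

theorem commuting {x : Matrix.ProjectiveSpecialLinearGroup (Fin 2) F} (h4 : 4 ≤ Fintype.card F)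
    (hx : x * x = 1) (hx1 : x ≠ 1) : ∃ s, s * s = 1 ∧ s ≠ 1 ∧ s ≠ x ∧ x * s = s * x := by
  obtain ⟨A, rfl, hA⟩ := lift_invol hx hx1
  have ha := (sq_iff A).1 hA
  have hd := det_eq_one A
  rw [ha] at hd
  by_cases h2 : (2 : F) = 0
  · classical
    obtain ⟨l, -, hl⟩ := Finset.exists_mem_notMem_of_card_lt_card (s := ({0, 1} : Finset F))
      (t := Finset.univ) (by
        have := Finset.card_le_two (a := (0 : F)) (b := 1)
        rw [Finset.card_univ]
        omega)
    simp only [Finset.mem_insert, Finset.mem_singleton, not_or] at hl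
    set a := 1 + l * (A.1 0 0 - 1)
    set C := sl a (l * A.1 0 1) (l * A.1 1 0) a (by
      simp only [a]
      linear_combination l ^ 2 * hd + (l * (A.1 0 0 - 1) + l ^ 2 * (A.1 0 0 ^ 2 - A.1 0 0 + 1)) * h2) with hC
    have hnz : A.1 0 1 ≠ 0 ∨ A.1 1 0 ≠ 0 := by
      by_contra! h
      apply hx1
      rw [pr_eq_one_iff]
      left
      rw [h.1, h.2] at hd
      have h00 : A.1 0 0 = 1 := by
        have : (A.1 0 0 - 1) ^ 2 = 0 := by linear_combination hd + (A.1 0 0 ^ 2 - A.1 0 0 + 1) * h2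
        exact sub_eq_zero.1 (pow_eq_zero_iff two_ne_zero |>.1 this)
      obtain ⟨e00, e01, e10, e11⟩ := val_one (F := F)
      refine ext_four ?_ ?_ ?_ ?_ <;> simp only [e00, e01, e10, e11, h00, h.1, h.2, ha]
      linear_combination -h2
    have v01 : C.1 0 1 = l * A.1 0 1 := by rw [hC, sl01]
    have v10 : C.1 1 0 = l * A.1 1 0 := by rw [hC, sl10]
    refine ⟨pr C, ?_, fun e => ?_, fun e => ?_, ?_⟩
    · rw [← map_mul, pr_eq_one_iff]
      exact Or.inr ((sq_iff _).2 (by rw [hC, sl11, sl00]; linear_combination a * h2))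
    · obtain ⟨e00, e01, e10, e11⟩ := val_one (F := F)
      have e' := pr_inj h2 (e.trans (map_one pr).symm)
      rcases hnz with h | h
      · exact h ((mul_eq_zero.1 (v01.symm.trans ((congrArg (fun g : SL(2, F) => g.1 0 1) e').trans e01))).resolve_left hl.1)
      · exact h ((mul_eq_zero.1 (v10.symm.trans ((congrArg (fun g : SL(2, F) => g.1 1 0) e').trans e10))).resolve_left hl.1)
    · have e' := pr_inj h2 e
      have hl1 : l - 1 ≠ 0 := sub_ne_zero.2 hl.2
      rcases hnz with h | h
      · have := v01.symm.trans (congrArg (fun g : SL(2, F) => g.1 0 1) e')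
        exact h ((mul_eq_zero.1 (show (l - 1) * A.1 0 1 = 0 by linear_combination this)).resolve_left hl1)
      · have := v10.symm.trans (congrArg (fun g : SL(2, F) => g.1 1 0) e')
        exact h ((mul_eq_zero.1 (show (l - 1) * A.1 1 0 = 0 by linear_combination this)).resolve_left hl1)
    · rw [← map_mul, ← map_mul]
      congr 1
      refine ext_four ?_ ?_ ?_ ?_ <;> simp only [val_mul, hC, sl00, sl01, sl10, sl11, ha, a]
      · ring
      · linear_combination (l * A.1 0 1 * A.1 0 0) * h2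
      · linear_combination -(l * A.1 1 0 * A.1 0 0) * h2
      · ring
  · have hodd : Odd (Fintype.card F) := Nat.odd_iff.2 (FiniteField.odd_card_of_char_ne_two fun e => h2 (by
      have := ringChar.Nat.cast_ringChar (R := F)
      rw [e] at this
      exact_mod_cast this))
    obtain ⟨g, hg⟩ := conj_to_J hodd hA
    obtain ⟨p, q, hpq⟩ := exists_sum_sq hodd (-1 : F)
    set K := sl p q q (-p) (by linear_combination -hpq) with hK
    have hKK : K * K = -1 := (sq_iff _).2 (by rw [hK, sl11, sl00])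
    have hJK : pr (Cfsg.Lib.Classical.PSLFour.J : SL(2, F)) * pr K = pr K * pr Cfsg.Lib.Classical.PSLFour.J := by
      rw [← map_mul, ← map_mul, ← pr_neg (K * Cfsg.Lib.Classical.PSLFour.J)]
      congr 1
      refine ext_four ?_ ?_ ?_ ?_ <;> simp [val_mul, val_neg, Cfsg.Lib.Classical.PSLFour.J, hK, sl00, sl01, sl10, sl11]
    have hK1 : pr K ≠ 1 := fun e => by
      rcases (pr_eq_one_iff _).1 e with e | e <;> rw [e] at hKK <;>
        (have := congrArg (fun m : SL(2, F) => m.1 0 0) hKK
         simp [val_neg, val_mul] at this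
         exact h2 (by linear_combination this))
    have hKJ : pr K ≠ pr Cfsg.Lib.Classical.PSLFour.J := fun e => by
      have hd' := det_eq_one K
      have : K.1 0 1 = K.1 1 0 := by rw [hK, sl01, sl10]
      have e1 : pr (K * Cfsg.Lib.Classical.PSLFour.J) = 1 := by
        rw [map_mul, e, ← map_mul, J_sq, pr_eq_one_iff]
        exact Or.inr rfl
      have v00 : K.1 0 0 = p := by rw [hK, sl00]
      have v01 : K.1 0 1 = q := by rw [hK, sl01]
      rcases (pr_eq_one_iff _).1 e1 with u | u <;>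
        (have u0 := congrArg (fun m : SL(2, F) => m.1 0 0) u
         have u3 := congrArg (fun m : SL(2, F) => m.1 1 1) u
         simp [val_mul, val_neg, Cfsg.Lib.Classical.PSLFour.J, hK, sl00, sl01, sl10, sl11] at u0 u3
         exact h2 (by first | linear_combination u0 - u3 | linear_combination u3 - u0 | linear_combination u0 + u3 | linear_combination -u0 - u3))
    rw [← hg, map_mul, map_mul, map_inv]
    refine ⟨pr g * pr K * (pr g)⁻¹, ?_, ?_, ?_, ?_⟩
    · calc pr g * pr K * (pr g)⁻¹ * (pr g * pr K * (pr g)⁻¹) = pr g * (pr K * pr K) * (pr g)⁻¹ := by group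
        _ = 1 := by rw [← map_mul pr K K, hKK, (pr_eq_one_iff (-1 : SL(2, F))).2 (Or.inr rfl)]; group
    · simpa using hK1
    · simpa using hKJ
    · calc pr g * pr Cfsg.Lib.Classical.PSLFour.J * (pr g)⁻¹ * (pr g * pr K * (pr g)⁻¹) = pr g * (pr Cfsg.Lib.Classical.PSLFour.J * pr K) * (pr g)⁻¹ := by group
        _ = pr g * (pr K * pr Cfsg.Lib.Classical.PSLFour.J) * (pr g)⁻¹ := by rw [hJK]
        _ = pr g * pr K * (pr g)⁻¹ * (pr g * pr Cfsg.Lib.Classical.PSLFour.J * (pr g)⁻¹) := by group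

end Cfsg.PSLGraph
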