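import Cfsg.Agent.InvolCalc.PSLGraph.Basic

/-!
Two involutions of `PSL₂` have a common partner with odd products.
-/

set_option autoImplicit false
set_option linter.unusedSectionVars false
set_option linter.flexible false

namespace Cfsg.PSLGraph

open Matrix Cfsg.Lib.Classical.PSLFour
open scoped MatrixGroups

variable {F : Type*} [Field F] [Fintype F]

theorem exists_nonsquare_shift (h3 : Fintype.card F % 4 = 3) (h7 : 4 ≤ Fintype.card F) {κ : F}
    (hκ : κ ≠ 0) : ∃ x : F, x ^ 2 ≠ 1 ∧ ¬ IsSquare (x ^ 2 + κ ^ 2) := by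
  classical
  have hodd : Odd (Fintype.card F) := Nat.odd_iff.2 (by omega)
  have h2 := two_ne (F := F) hodd
  by_contra! h
  let f : F → F := fun u => (κ ^ 2 / u - u) / 2
  have hmem : ∀ x, x ^ 2 ≠ 1 → ∃ u, u ≠ 0 ∧ f u = x := by
    intro x hx
    obtain ⟨y, hy⟩ := h x hx
    refine ⟨y - x, fun e => ?_, ?_⟩
    · rw [sub_eq_zero.1 e] at hy
      exact pow_ne_zero 2 hκ (by linear_combination hy)
    · have hne : y - x ≠ 0 := fun e => by
        rw [sub_eq_zero.1 e] at hy
        exact pow_ne_zero 2 hκ (by linear_combination hy)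
      have e : κ ^ 2 / (y - x) = y + x := by
        rw [div_eq_iff hne]
        linear_combination hy
      simp only [f, e]
      field_simp
      ring
  set U : Finset F := Finset.univ.erase 0
  have hfib : ∀ x ∈ U.image f, 2 ≤ (U.filter fun u => f u = x).card := by
    intro x hx
    obtain ⟨u, hu, rfl⟩ := Finset.mem_image.1 hx
    have hu0 : u ≠ 0 := Finset.ne_of_mem_erase hu
    refine Finset.one_lt_card.2 ⟨u, by simp [hu], -(κ ^ 2) / u, ?_, ?_⟩
    · simp only [Finset.mem_filter, U, Finset.mem_erase, Finset.mem_univ, and_true]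
      refine ⟨div_ne_zero (neg_ne_zero.2 (pow_ne_zero 2 hκ)) hu0, ?_⟩
      simp only [f]
      field_simp
      ring
    · intro e
      have : IsSquare (-1 : F) := ⟨u / κ, by field_simp at e ⊢; linear_combination -e⟩
      exact (FiniteField.isSquare_neg_one_iff.1 this) h3
  have h1 : 2 * (U.image f).card ≤ U.card := by
    rw [Finset.card_eq_sum_card_image f U, mul_comm, ← smul_eq_mul]
    exact Finset.card_nsmul_le_sum _ _ _ hfib
  have h4 : (Finset.univ : Finset F) ⊆ U.image f ∪ {1, -1} := by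
    intro x _
    by_cases hx : x ^ 2 = 1
    · rcases sq_eq_one_iff.1 hx with rfl | rfl <;> simp
    · obtain ⟨u, hu, rfl⟩ := hmem x hx
      exact Finset.mem_union_left _ (Finset.mem_image.2 ⟨u, by simp [U, hu], rfl⟩)
  have h5 := (Finset.card_le_card h4).trans (Finset.card_union_le _ _)
  have h6 := (Finset.card_le_two (a := (1 : F)) (b := -1))
  have h8 : U.card = Fintype.card F - 1 := by
    simp [U, Finset.card_erase_of_mem]
  rw [Finset.card_univ] at h5
  omega

theorem partner_three (h3 : Fintype.card F % 4 = 3) (h7 : 4 ≤ Fintype.card F) {b : F}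
    (hb : ¬ IsSquare (b ^ 2 - 1)) :
    ∃ c d g e : F, (e = b ∨ e = -b) ∧ 1 + e ≠ 0 ∧ c ^ 2 - 1 = d ^ 2 ∧
      g ^ 2 * ((1 + e) ^ 2 * (1 - e)) = 1 + e - 2 * c ^ 2 := by
  have hm1 : ¬ IsSquare (-1 : F) := fun h => (FiniteField.isSquare_neg_one_iff.1 h) h3
  have hchar : ringChar F ≠ 2 := fun h => by
    have := FiniteField.even_card_of_char_two h
    omega
  have hns : ∀ a : F, ¬ IsSquare a → IsSquare (-a) := by
    intro a ha
    have ha0 : a ≠ 0 := fun e => ha (e ▸ IsSquare.zero)
    by_contra h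
    have key : ∀ a : F, a ≠ 0 → ¬ IsSquare a → a ^ (Fintype.card F / 2) = -1 := fun a ha0 ha =>
      (FiniteField.pow_dichotomy hchar ha0).resolve_left fun e =>
        ha ((FiniteField.isSquare_iff hchar ha0).2 e)
    have h1 := key a ha0 ha
    have h2 := key (-a) (neg_ne_zero.2 ha0) h
    rw [Odd.neg_pow ⟨Fintype.card F / 4, by omega⟩, h1, neg_neg] at h2
    exact two_ne (F := F) (Nat.odd_iff.2 (by omega)) (by linear_combination h2)
  have hne : ∀ e : F, (e = b ∨ e = -b) → 1 + e ≠ 0 ∧ 1 - e ≠ 0 := by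
    intro e he
    constructor <;> intro h <;> refine hb ?_ <;>
      rw [show b ^ 2 - 1 = (e - 1) * (e + 1) by rcases he with rfl | rfl <;> ring]
    · rw [show e + 1 = 0 by linear_combination h, mul_zero]
      exact IsSquare.zero
    · rw [show e - 1 = 0 by linear_combination -h, zero_mul]
      exact IsSquare.zero
  obtain ⟨he, hf⟩ := hne b (Or.inl rfl)
  obtain ⟨dd, hdd⟩ := hns _ hb
  have hdd0 : dd ≠ 0 := fun e => hb (by
    rw [e, mul_zero, neg_eq_zero] at hdd
    rw [hdd]
    exact IsSquare.zero)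
  obtain ⟨x, hx, hxk⟩ := exists_nonsquare_shift h3 h7 (div_ne_zero hdd0 hf)
  obtain ⟨g, hg⟩ := hns _ hxk
  have hgf : (g * (1 - b)) ^ 2 = -(x ^ 2 * (1 - b) + (1 + b)) * (1 - b) := by
    field_simp at hg
    linear_combination -hg + hdd
  by_cases hsq : IsSquare (x ^ 2 - 1)
  · obtain ⟨d0, hd0⟩ := hsq
    have hd00 : d0 ≠ 0 := fun e => hx (by rw [e] at hd0; linear_combination hd0)
    refine ⟨x / d0, 1 / d0, g / (d0 * (1 + b)), b, Or.inl rfl, he, ?_, ?_⟩
    · field_simp
      linear_combination hd0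
    · have hgf' : g ^ 2 * (1 - b) = -(x ^ 2 * (1 - b) + (1 + b)) :=
        mul_right_cancel₀ hf (by linear_combination hgf)
      field_simp
      linear_combination hgf' + (1 + b) * hd0
  · obtain ⟨d0, hd0⟩ := hns _ hsq
    have hd00 : d0 ≠ 0 := fun e => hx (by rw [e] at hd0; linear_combination -hd0)
    refine ⟨1 / d0, x / d0, g / (d0 * dd), -b, Or.inr rfl, (hne _ (Or.inr rfl)).1, ?_, ?_⟩
    · field_simp
      linear_combination hd0
    · field_simp
      linear_combination (1 + b) * hgf + dd ^ 2 * (1 - b) * hd0 + (-(1 - b) * x ^ 2 - (1 + b)) * hdd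

/-- The goal in `SL₂`. -/
def GoodSL (A B : SL(2, F)) : Prop :=
  ∃ C : SL(2, F), C * C = -1 ∧ Odd (orderOf (pr A * pr C)) ∧ Odd (orderOf (pr B * pr C))

theorem good_self {A B : SL(2, F)} (hA : A * A = -1) (h : Odd (orderOf (pr (B * A)))) : GoodSL A B :=
  ⟨A, hA, by rw [← map_mul, hA, (pr_eq_one_iff (-1 : SL(2, F))).2 (Or.inr rfl), orderOf_one]; exact odd_one,
    by rwa [← map_mul]⟩

theorem good_odd (h4 : 4 ≤ Fintype.card F) (hodd : Odd (Fintype.card F)) {A B : SL(2, F)}
    (hA : A * A = -1) (hB : B * B = -1) : GoodSL A B := by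
  have h2 := two_ne (F := F) hodd
  set b := tr (A * B) / -2 with hb0
  have hb : tr (A * B) = -2 * b := by rw [hb0]; field_simp
  have hBn : -B * -B = -1 := by simp [hB]
  have hbn : tr (A * -B) = -2 * -b := by rw [tr_neg_right, hb]; ring
  rcases (by obtain ⟨k, hk⟩ := hodd; omega : Fintype.card F % 4 = 1 ∨ Fintype.card F % 4 = 3) with h | h
  · by_cases hb1 : b ^ 2 = 1
    · refine good_self hA (odd_parab hodd ?_)
      rw [← tr_comm, hb]
      rcases sq_eq_one_iff.1 hb1 with e | e <;> rw [e]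
      · exact Or.inr (by ring)
      · exact Or.inl (by ring)
    · obtain ⟨i, hi⟩ : IsSquare (-1 : F) := FiniteField.isSquare_neg_one_iff.2 (by omega)
      have he : 1 + b ≠ 0 := fun e => hb1 (by linear_combination (b - 1) * e)
      obtain ⟨C, hC, t1, t2⟩ := build hA hB (c := 1) (g := i / (1 + b)) h2 hb he
        (by field_simp; linear_combination (b - 1) * hi)
      refine ⟨C, hC, ?_, ?_⟩ <;> rw [← map_mul] <;> refine odd_parab hodd (Or.inr ?_)
      · rw [t1]; ring
      · rw [t2]; ring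
  · by_cases hsq : IsSquare (b ^ 2 - 1)
    · obtain ⟨d, hd⟩ := hsq
      refine good_self hA (odd_split h (d := 2 * d) ?_)
      rw [← tr_comm, hb]
      linear_combination 4 * hd
    · obtain ⟨c, d, g, e, hee, he, hcd, hg⟩ := partner_three h h4 hsq
      have hod : ∀ M : SL(2, F), tr M = -2 * c → Odd (orderOf (pr M)) := fun M hM =>
        odd_split h (d := 2 * d) (by rw [hM]; linear_combination 4 * hcd)
      rcases hee with rfl | rfl
      · obtain ⟨C, hC, t1, t2⟩ := build hA hB h2 hb he hg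
        exact ⟨C, hC, by rw [← map_mul]; exact hod _ t1, by rw [← map_mul]; exact hod _ t2⟩
      · obtain ⟨C, hC, t1, t2⟩ := build hA hBn h2 hbn he hg
        refine ⟨C, hC, by rw [← map_mul]; exact hod _ t1, ?_⟩
        rw [← pr_neg B, ← map_mul]
        exact hod _ t2

end Cfsg.PSLGraph
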